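import Mathlib

/-!
# Points of the Grassmannian given by matrices
-/

set_option autoImplicit false
set_option linter.style.haveILetI false
set_option linter.unusedSectionVars false
set_option backward.isDefEq.respectTransparency false
set_option backward.isDefEq.respectTransparency.types false

universe u

open TensorProduct Matrix

noncomputable section

namespace Groth.Agent.GrPlucker

variable {k : Type u} [CommRing k] {M : Type u} [AddCommGroup M] [Module k M] {N : ℕ}
  (b : Module.Basis (Fin N) k M)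

/-- The linear map of a matrix. -/
def lin {A : Type u} [CommRing A] [Algebra k A] {n : ℕ} (P : Matrix (Fin n) (Fin N) A) :
    A ⊗[k] M →ₗ[A] (Fin n → A) :=
  P.mulVecLin ∘ₗ (b.baseChange A).equivFun.toLinearMap

theorem lin_basis {A : Type u} [CommRing A] [Algebra k A] {n : ℕ} (P : Matrix (Fin n) (Fin N) A) (l : Fin N) :
    lin b P ((1 : A) ⊗ₜ[k] b l) = fun r => P r l := by
  rw [lin, LinearMap.comp_apply, LinearEquiv.coe_toLinearMap, ← Module.Basis.baseChange_apply, mulVecLin_apply]
  funext r
  classical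
  simp [mulVec, dotProduct, Module.Basis.equivFun_apply, Finsupp.single_apply]

theorem lin_mul {A : Type u} [CommRing A] [Algebra k A] {n : ℕ} (G : Matrix (Fin n) (Fin n) A)
    (P : Matrix (Fin n) (Fin N) A) : lin b (G * P) = G.mulVecLin ∘ₗ lin b P := by
  rw [lin, lin, mulVecLin_mul, LinearMap.comp_assoc]

/-- The matrix is the identity on the columns `I`. -/
def Normed {A : Type u} [CommRing A] {n : ℕ} (I : Fin n → Fin N) (P : Matrix (Fin n) (Fin N) A) : Prop :=
  P.submatrix id I = 1

variable {A : Type u} [CommRing A] [Algebra k A] {n : ℕ} {I : Fin n → Fin N}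

theorem lin_surjective {P : Matrix (Fin n) (Fin N) A} (hP : Normed I P) : Function.Surjective (lin b P) := by
  intro v
  refine ⟨∑ r, v r • ((1 : A) ⊗ₜ[k] b (I r)), ?_⟩
  rw [map_sum]
  funext r'
  rw [Finset.sum_apply, Finset.sum_eq_single r']
  · rw [map_smul, lin_basis, Pi.smul_apply, smul_eq_mul, show P r' (I r') = (P.submatrix id I) r' r' from rfl, hP,
      one_apply_eq, mul_one]
  · intro r _ hr
    rw [map_smul, lin_basis, Pi.smul_apply, smul_eq_mul, show P r' (I r) = (P.submatrix id I) r' r from rfl, hP,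
      one_apply_ne (Ne.symm hr), mul_zero]
  · simp

/-- The point of the Grassmannian of a normalised matrix. -/
def gr (P : Matrix (Fin n) (Fin N) A) (hP : Normed I P) : Module.Grassmannian A (A ⊗[k] M) n :=
  haveI e := (lin b P).quotKerEquivOfSurjective (lin_surjective b hP)
  { toSubmodule := (lin b P).ker
    finite_quotient := Module.Finite.equiv e.symm
    projective_quotient := Module.Projective.of_equiv e.symm
    rankAtStalk_eq := fun p => by
      haveI : Nontrivial A := ⟨⟨0, 1, fun h => p.isPrime.ne_top ((Ideal.eq_top_iff_one _).2 (h ▸ zero_mem _))⟩⟩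
      rw [Module.rankAtStalk_eq_of_equiv e, Module.rankAtStalk_eq_finrank_of_free]
      simp }

theorem gr_toSubmodule (P : Matrix (Fin n) (Fin N) A) (hP : Normed I P) :
    (gr b P hP).toSubmodule = (lin b P).ker := rfl

/-- A matrix with the same kernel differs by its minor on the normalised columns. -/
theorem eq_mul_of_ker {n' : ℕ} {P : Matrix (Fin n) (Fin N) A} (hP : Normed I P) {P' : Matrix (Fin n') (Fin N) A}
    (h : (lin b P).ker ≤ (lin b P').ker) : P' = P'.submatrix id I * P := by
  refine Matrix.ext fun r l => ?_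
  have hk : ((1 : A) ⊗ₜ[k] b l) - ∑ s, P s l • ((1 : A) ⊗ₜ[k] b (I s)) ∈ (lin b P).ker := by
    rw [LinearMap.mem_ker, map_sub, map_sum, lin_basis, sub_eq_zero]
    funext r'
    rw [Finset.sum_apply, Finset.sum_eq_single r']
    · rw [map_smul, lin_basis, Pi.smul_apply, smul_eq_mul, show P r' (I r') = (P.submatrix id I) r' r' from rfl, hP,
        one_apply_eq, mul_one]
    · intro s _ hs
      rw [map_smul, lin_basis, Pi.smul_apply, smul_eq_mul, show P r' (I s) = (P.submatrix id I) r' s from rfl, hP,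
        one_apply_ne (Ne.symm hs), mul_zero]
    · simp
  have h2 := congrFun (LinearMap.mem_ker.1 (h hk)) r
  rw [map_sub, map_sum, lin_basis, Pi.sub_apply, Pi.zero_apply, sub_eq_zero, Finset.sum_apply] at h2
  rw [h2, Matrix.mul_apply]
  refine Finset.sum_congr rfl fun s _ => ?_
  rw [map_smul, lin_basis, Pi.smul_apply, smul_eq_mul, mul_comm]
  rfl

theorem gr_injective {P P' : Matrix (Fin n) (Fin N) A} (hP : Normed I P) (hP' : Normed I P')
    (h : gr b P hP = gr b P' hP') : P = P' := by
  have := eq_mul_of_ker b hP (P' := P') (congrArg Module.Grassmannian.toSubmodule h).le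
  rw [hP', Matrix.one_mul] at this
  exact this.symm

theorem Normed.map {B : Type u} [CommRing B] (φ : A →+* B) {P : Matrix (Fin n) (Fin N) A} (hP : Normed I P) :
    Normed I (P.map φ) := by
  refine Matrix.ext fun r r' => ?_
  show φ (P r (I r')) = _
  rw [show P r (I r') = (P.submatrix id I) r r' from rfl, hP, Matrix.one_apply, Matrix.one_apply]
  split_ifs <;> simp

variable {B : Type u} [CommRing B] [Algebra k B]

theorem map_gr (φ : A →ₐ[k] B) (P : Matrix (Fin n) (Fin N) A) (hP : Normed I P) :
    Module.Grassmannian.map φ (gr b P hP) = gr b (P.map φ) (hP.map φ.toRingHom) := by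
  letI : Algebra A B := φ.toRingHom.toAlgebra
  haveI : IsScalarTower k A B := IsScalarTower.of_algebraMap_eq' φ.comp_algebraMap.symm
  refine Module.Grassmannian.ext ?_
  rw [Module.Grassmannian.map_toSubmodule, gr_toSubmodule]
  let e0 := (lin b P).quotKerEquivOfSurjective (lin_surjective b hP)
  let ε : B ⊗[A] ((A ⊗[k] M) ⧸ (lin b P).ker) ≃ₗ[B] (Fin n → B) :=
    (e0.baseChange A B) ≪≫ₗ TensorProduct.piScalarRight A B B (Fin n)
  have h0 : ∀ l, Module.Grassmannian.baseChangeMkQ B (lin b P).ker ((1 : B) ⊗ₜ[k] b l) =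
      (1 : B) ⊗ₜ[A] (lin b P).ker.mkQ ((1 : A) ⊗ₜ[k] b l) := fun l => by
    simp [Module.Grassmannian.baseChangeMkQ]
  have h : lin b (P.map φ) = ε.toLinearMap ∘ₗ Module.Grassmannian.baseChangeMkQ B (lin b P).ker := by
    refine (b.baseChange B).ext fun l => ?_
    rw [Module.Basis.baseChange_apply, lin_basis, LinearMap.comp_apply, h0]
    funext r
    show φ (P r l) = TensorProduct.piScalarRight A B B (Fin n) ((1 : B) ⊗ₜ[A] e0 (Submodule.Quotient.mk ((1 : A) ⊗ₜ[k] b l))) r
    rw [LinearMap.quotKerEquivOfSurjective_apply_mk, lin_basis]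
    simp [TensorProduct.piScalarRight_apply, Algebra.smul_def]
    rfl
  show _ = (lin b (P.map φ)).ker
  rw [h, LinearEquiv.ker_comp]

/-- The columns `I` span the quotient. -/
def Spans (I : Fin n → Fin N) (S : Submodule A (A ⊗[k] M)) : Prop :=
  ⊤ ≤ S ⊔ Submodule.span A (Set.range fun r => (1 : A) ⊗ₜ[k] b (I r))

theorem spans_gr (P : Matrix (Fin n) (Fin N) A) (hP : Normed I P) : Spans b I (gr b P hP).toSubmodule := by
  rintro x -
  rw [Submodule.mem_sup]
  refine ⟨x - ∑ r, lin b P x r • ((1 : A) ⊗ₜ[k] b (I r)), ?_, _,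
    Submodule.sum_mem _ fun r _ => Submodule.smul_mem _ (lin b P x r) (Submodule.subset_span ⟨r, rfl⟩),
    sub_add_cancel _ _⟩
  rw [gr_toSubmodule, LinearMap.mem_ker, map_sub, map_sum, sub_eq_zero]
  funext r'
  rw [Finset.sum_apply, Finset.sum_eq_single r']
  · rw [map_smul, lin_basis, Pi.smul_apply, smul_eq_mul, show P r' (I r') = (P.submatrix id I) r' r' from rfl, hP,
      one_apply_eq, mul_one]
  · intro s _ hs
    rw [map_smul, lin_basis, Pi.smul_apply, smul_eq_mul, show P r' (I s) = (P.submatrix id I) r' s from rfl, hP,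
      one_apply_ne (Ne.symm hs), mul_zero]
  · simp

theorem exists_eq_gr (S : Module.Grassmannian A (A ⊗[k] M) n) (h : Spans b I S.toSubmodule) :
    ∃ (P : Matrix (Fin n) (Fin N) A) (hP : Normed I P), gr b P hP = S := by
  classical
  let u : (Fin n → A) →ₗ[A] (A ⊗[k] M) ⧸ S.toSubmodule :=
    (Pi.basisFun A (Fin n)).constr A fun r => S.toSubmodule.mkQ ((1 : A) ⊗ₜ[k] b (I r))
  have hu : Function.Surjective u := by
    intro q
    obtain ⟨x, rfl⟩ := S.toSubmodule.mkQ_surjective q
    obtain ⟨y, hy, z, hz, rfl⟩ := Submodule.mem_sup.1 (h (Submodule.mem_top (x := x)))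
    rw [map_add, Submodule.mkQ_apply _ y, (Submodule.Quotient.mk_eq_zero _).2 hy, zero_add]
    have h2 := Submodule.mem_map_of_mem (f := S.toSubmodule.mkQ) hz
    rw [Submodule.map_span, ← Set.range_comp] at h2
    rw [← LinearMap.mem_range, Module.Basis.constr_range]
    exact h2
  have hb : Function.Bijective u := Module.bijective_of_surjective_of_rankAtStalk_eq hu fun m _ => by
    haveI : Nontrivial A := ⟨⟨0, 1, fun h => (‹m.IsMaximal›).ne_top ((Ideal.eq_top_iff_one _).2 (h ▸ zero_mem _))⟩⟩
    rw [S.rankAtStalk_eq, Module.rankAtStalk_eq_finrank_of_free]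
    simp
  let e := LinearEquiv.ofBijective u hb
  let P : Matrix (Fin n) (Fin N) A := fun r l => e.symm (S.toSubmodule.mkQ ((1 : A) ⊗ₜ[k] b l)) r
  have hP : Normed I P := by
    refine Matrix.ext fun r r' => ?_
    show e.symm (S.toSubmodule.mkQ ((1 : A) ⊗ₜ[k] b (I r'))) r = _
    rw [show S.toSubmodule.mkQ ((1 : A) ⊗ₜ[k] b (I r')) = e (Pi.basisFun A (Fin n) r') from
      ((Pi.basisFun A (Fin n)).constr_basis A (fun r => S.toSubmodule.mkQ ((1 : A) ⊗ₜ[k] b (I r))) r').symm, LinearEquiv.symm_apply_apply, Pi.basisFun_apply,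
      Pi.single_apply, one_apply]
  refine ⟨P, hP, Module.Grassmannian.ext ?_⟩
  have hl : lin b P = e.symm.toLinearMap ∘ₗ S.toSubmodule.mkQ := by
    refine (b.baseChange A).ext fun l => ?_
    rw [Module.Basis.baseChange_apply, lin_basis]
    rfl
  rw [gr_toSubmodule, hl, LinearEquiv.ker_comp, Submodule.ker_mkQ]

/-- Pushing an element to a bigger ring. -/
def push (φ : A →ₐ[k] B) : A ⊗[k] M →ₗ[k] B ⊗[k] M := φ.toLinearMap.rTensor M

theorem push_tmul (φ : A →ₐ[k] B) (a : A) (m : M) : push φ (a ⊗ₜ[k] m) = φ a ⊗ₜ[k] m := rfl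

theorem push_smul (φ : A →ₐ[k] B) (a : A) (x : A ⊗[k] M) : push φ (a • x) = φ a • push φ x := by
  induction x with
  | zero => simp
  | tmul c m => rw [TensorProduct.smul_tmul', push_tmul, push_tmul, TensorProduct.smul_tmul', smul_eq_mul,
      smul_eq_mul, map_mul]
  | add x y hx hy => rw [smul_add, map_add, map_add, smul_add, hx, hy]

theorem push_mem (φ : A →ₐ[k] B) (S : Module.Grassmannian A (A ⊗[k] M) n) {x : A ⊗[k] M}
    (hx : x ∈ S.toSubmodule) : push φ x ∈ (Module.Grassmannian.map φ S).toSubmodule := by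
  letI : Algebra A B := φ.toRingHom.toAlgebra
  haveI : IsScalarTower k A B := IsScalarTower.of_algebraMap_eq' φ.comp_algebraMap.symm
  rw [Module.Grassmannian.map_toSubmodule, LinearMap.mem_ker]
  have h : ∀ y : A ⊗[k] M, Module.Grassmannian.baseChangeMkQ B S.toSubmodule (push φ y) =
      (1 : B) ⊗ₜ[A] S.toSubmodule.mkQ y := fun y => by
    induction y with
    | zero => simp
    | tmul c m =>
      simp only [push_tmul, Module.Grassmannian.baseChangeMkQ, LinearMap.comp_apply, LinearEquiv.coe_toLinearMap,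
        AlgebraTensorModule.cancelBaseChange_symm_tmul, LinearMap.baseChange_tmul]
      rw [show c ⊗ₜ[k] m = c • ((1 : A) ⊗ₜ[k] m) by rw [TensorProduct.smul_tmul', smul_eq_mul, mul_one], map_smul,
        ← TensorProduct.smul_tmul, Algebra.smul_def, mul_one]
      rfl
    | add y z hy hz => simp only [map_add, TensorProduct.tmul_add, hy, hz]
  rw [h, Submodule.mkQ_apply, (Submodule.Quotient.mk_eq_zero _).2 hx, TensorProduct.tmul_zero]

theorem spans_of_smul_mem (φ : A →ₐ[k] B) (S : Module.Grassmannian A (A ⊗[k] M) n) (f : A) (hf : IsUnit (φ f))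
    (h : ∀ l, f • ((1 : A) ⊗ₜ[k] b l) ∈ S.toSubmodule ⊔ Submodule.span A (Set.range fun r => (1 : A) ⊗ₜ[k] b (I r))) :
    Spans b I (Module.Grassmannian.map φ S).toSubmodule := by
  rw [Spans, ← (b.baseChange B).span_eq, Submodule.span_le]
  rintro _ ⟨l, rfl⟩
  rw [Module.Basis.baseChange_apply, SetLike.mem_coe]
  obtain ⟨y, hy, z, hz, hyz⟩ := Submodule.mem_sup.1 (h l)
  have h2 : φ f • ((1 : B) ⊗ₜ[k] b l) = push φ y + push φ z := by
    rw [← map_add, hyz, push_smul, push_tmul, map_one]
  have hz' : ∀ w ∈ Submodule.span A (Set.range fun r => (1 : A) ⊗ₜ[k] b (I r)),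
      push φ w ∈ Submodule.span B (Set.range fun r => (1 : B) ⊗ₜ[k] b (I r)) := fun w hw => by
    induction hw using Submodule.span_induction with
    | mem v hv =>
      obtain ⟨r, rfl⟩ := hv
      exact Submodule.subset_span ⟨r, by rw [push_tmul, map_one]⟩
    | zero => simp
    | add v v' _ _ hv hv' => rw [map_add]; exact add_mem hv hv'
    | smul c v _ hv => rw [push_smul]; exact Submodule.smul_mem _ _ hv
  obtain ⟨v, hv⟩ := hf
  have h3 : ((1 : B) ⊗ₜ[k] b l) = (↑v⁻¹ : B) • (push φ y + push φ z) := by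
    rw [← h2, smul_smul, ← hv, Units.inv_mul, one_smul]
  rw [h3]
  exact Submodule.smul_mem _ _ (add_mem (Submodule.mem_sup_left (push_mem φ S hy)) (Submodule.mem_sup_right (hz' z hz)))

theorem Spans.map (φ : A →ₐ[k] B) {S : Module.Grassmannian A (A ⊗[k] M) n} (h : Spans b I S.toSubmodule) :
    Spans b I (Module.Grassmannian.map φ S).toSubmodule :=
  spans_of_smul_mem b φ S 1 (by rw [map_one]; exact isUnit_one) fun _ => by
    rw [one_smul]; exact h Submodule.mem_top

/-- Spanning at a field-valued point spreads to a basic open. -/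
theorem exists_smul_mem_of_spans {K : Type u} [Field K] [Algebra k K] (φ : A →ₐ[k] K)
    (S : Module.Grassmannian A (A ⊗[k] M) n) (h : Spans b I (Module.Grassmannian.map φ S).toSubmodule) :
    ∃ f : A, φ f ≠ 0 ∧
      ∀ l, f • ((1 : A) ⊗ₜ[k] b l) ∈ S.toSubmodule ⊔ Submodule.span A (Set.range fun r => (1 : A) ⊗ₜ[k] b (I r)) := by
  letI : Algebra A K := φ.toRingHom.toAlgebra
  haveI : IsScalarTower k A K := IsScalarTower.of_algebraMap_eq' φ.comp_algebraMap.symm
  let T := S.toSubmodule ⊔ Submodule.span A (Set.range fun r => (1 : A) ⊗ₜ[k] b (I r))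
  let C := (A ⊗[k] M) ⧸ T
  haveI : Module.Finite A (A ⊗[k] M) := Module.Finite.of_basis (b.baseChange A)
  have hC : Subsingleton (K ⊗[A] C) := by
    let π : ((A ⊗[k] M) ⧸ S.toSubmodule) →ₗ[A] C := Submodule.factor le_sup_left
    let g : K ⊗[k] M →ₗ[K] K ⊗[A] C :=
      π.baseChange K ∘ₗ Module.Grassmannian.baseChangeMkQ K S.toSubmodule
    have hg : Function.Surjective g :=
      (LinearMap.baseChange_surjective K (Submodule.factor_surjective le_sup_left)).comp
        (Module.Grassmannian.baseChangeMkQ_surjective S.toSubmodule)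
    refine subsingleton_of_forall_eq 0 fun z => ?_
    obtain ⟨x, rfl⟩ := hg z
    obtain ⟨y, hy, w, hw, rfl⟩ := Submodule.mem_sup.1 (h (Submodule.mem_top (x := x)))
    have hy' : Module.Grassmannian.baseChangeMkQ K S.toSubmodule y = 0 := by
      rw [← LinearMap.mem_ker, ← Module.Grassmannian.map_toSubmodule]; exact hy
    have hw' : g w = 0 := by
      induction hw using Submodule.span_induction with
      | mem v hv =>
        obtain ⟨r, rfl⟩ := hv
        simp only [g, π, LinearMap.comp_apply, Module.Grassmannian.baseChangeMkQ, LinearEquiv.coe_toLinearMap,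
          AlgebraTensorModule.cancelBaseChange_symm_tmul, LinearMap.baseChange_tmul]
        rw [show Submodule.factor le_sup_left (S.toSubmodule.mkQ ((1 : A) ⊗ₜ[k] b (I r))) = (0 : C) from
          (Submodule.Quotient.mk_eq_zero _).2 (Submodule.mem_sup_right (Submodule.subset_span ⟨r, rfl⟩)),
          TensorProduct.tmul_zero]
      | zero => exact map_zero _
      | add v v' _ _ hv hv' => rw [map_add, hv, hv', add_zero]
      | smul c v _ hv => rw [map_smul, hv, smul_zero]
    rw [map_add, hw', add_zero]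
    show π.baseChange K (Module.Grassmannian.baseChangeMkQ K S.toSubmodule y) = 0
    rw [hy', map_zero]
  let p : PrimeSpectrum A := ⟨RingHom.ker (algebraMap A K), RingHom.ker_isPrime _⟩
  haveI : p.asIdeal.IsPrime := p.isPrime
  have hp : p ∉ Module.support A C := fun hmem => by
    rw [Module.mem_support_iff_nontrivial_residueField_tensorProduct] at hmem
    let ψ : p.asIdeal.ResidueField →+* K :=
      Ideal.ResidueField.lift p.asIdeal (algebraMap A K) le_rfl (fun x hx => isUnit_iff_ne_zero.2 hx)
    letI : Algebra p.asIdeal.ResidueField K := ψ.toAlgebra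
    haveI : IsScalarTower A p.asIdeal.ResidueField K := IsScalarTower.of_algebraMap_eq' (by
      refine RingHom.ext fun a => ?_
      show algebraMap A K a = ψ (algebraMap A _ a)
      simp [ψ])
    haveI : Subsingleton (K ⊗[p.asIdeal.ResidueField] (p.asIdeal.ResidueField ⊗[A] C)) :=
      (AlgebraTensorModule.cancelBaseChange A p.asIdeal.ResidueField K K C).toEquiv.subsingleton
    exact not_subsingleton (p.asIdeal.ResidueField ⊗[A] C)
      (Module.FaithfullyFlat.lTensor_reflects_triviality p.asIdeal.ResidueField K _)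
  rw [Module.support_eq_zeroLocus, PrimeSpectrum.mem_zeroLocus, Set.not_subset] at hp
  obtain ⟨f, hf, hfp⟩ := hp
  refine ⟨f, fun h0 => hfp h0, fun l => ?_⟩
  exact (Submodule.Quotient.mk_eq_zero T).1 ((Submodule.Quotient.mk_smul T f _).trans (Module.mem_annihilator.1 hf _))

/-- Over a field some columns span. -/
theorem exists_spans {K : Type u} [Field K] [Algebra k K] (S : Module.Grassmannian K (K ⊗[k] M) n) :
    ∃ I : Fin n → Fin N, Function.Injective I ∧ Spans b I S.toSubmodule := by
  classical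
  let v : Fin N → (K ⊗[k] M) ⧸ S.toSubmodule := fun l => S.toSubmodule.mkQ ((1 : K) ⊗ₜ[k] b l)
  have hv : Submodule.span K (Set.range v) = ⊤ := by
    have : v = S.toSubmodule.mkQ ∘ (b.baseChange K) := funext fun l => by rw [Function.comp_apply, Module.Basis.baseChange_apply]
    rw [this, Set.range_comp, ← Submodule.map_span, (b.baseChange K).span_eq, Submodule.map_top, Submodule.range_mkQ]
  obtain ⟨κ, a, ha, hspan, hli⟩ := exists_linearIndependent' K v
  haveI : Fintype κ := Fintype.ofInjective a ha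
  have hcard : Fintype.card κ = n := by
    have h1 : Module.finrank K ((K ⊗[k] M) ⧸ S.toSubmodule) = n := by
      have := S.rankAtStalk_eq ⟨⊥, Ideal.isPrime_bot⟩
      rwa [Module.rankAtStalk_eq_finrank_of_free] at this
    rw [← h1, Module.finrank_eq_card_basis (Module.Basis.mk hli (by rw [hspan, hv]))]
  let ε := (Fintype.equivFinOfCardEq hcard).symm
  refine ⟨a ∘ ε, ha.comp ε.injective, fun x _ => ?_⟩
  have hx : S.toSubmodule.mkQ x ∈ Submodule.map S.toSubmodule.mkQ
      (Submodule.span K (Set.range fun r => (1 : K) ⊗ₜ[k] b ((a ∘ ε) r))) := by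
    rw [Submodule.map_span, ← Set.range_comp, show ((S.toSubmodule.mkQ : K ⊗[k] M → _) ∘ fun r => (1 : K) ⊗ₜ[k] b ((a ∘ ε) r)) = (v ∘ a) ∘ ε from rfl,
      ε.surjective.range_comp, hspan, hv]
    exact Submodule.mem_top
  obtain ⟨z, hz, hzx⟩ := hx
  refine Submodule.mem_sup.2 ⟨x - z, ?_, z, hz, sub_add_cancel x z⟩
  rw [← Submodule.Quotient.mk_eq_zero, Submodule.Quotient.mk_sub]
  exact sub_eq_zero.2 hzx.symm

end Groth.Agent.GrPlucker
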