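import Groth.Agent.GrPlucker.Algebra

/-!
# The standard charts of a scheme representing the Grassmannian functor
-/

set_option autoImplicit false
set_option linter.style.haveILetI false
set_option linter.unusedSectionVars false
set_option backward.isDefEq.respectTransparency false
set_option backward.isDefEq.respectTransparency.types false

universe u

open CategoryTheory CategoryTheory.Limits AlgebraicGeometry TensorProduct TopologicalSpace

noncomputable section

namespace Groth.Agent.GrPlucker

variable {k : Type u} [CommRing k] {M : Type u} [AddCommGroup M] [Module k M] {N n : ℕ}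

/-- Points with values in an algebra. -/
abbrev Pt (X : Over (Spec (CommRingCat.of k))) (A : Type u) [CommRing A] [Algebra k A] :=
  Over.mk (Spec.map (CommRingCat.ofHom (algebraMap k A))) ⟶ X

/-- A scheme representing the Grassmannian functor on affine schemes. -/
structure Rep (k : Type u) [CommRing k] (M : Type u) [AddCommGroup M] [Module k M] (n : ℕ) where
  X : Over (Spec (CommRingCat.of k))
  e : ∀ A : CommAlgCat.{u} k, (Over.mk (Spec.map (CommRingCat.ofHom (algebraMap k A))) ⟶ X) ≃
    (Module.Grassmannian.functor (R := k) (M := M) n).obj A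
  he : ∀ (A B : CommAlgCat.{u} k) (φ : A ⟶ B) (g : Over.mk (Spec.map (CommRingCat.ofHom (algebraMap k A))) ⟶ X)
    (g' : Over.mk (Spec.map (CommRingCat.ofHom (algebraMap k B))) ⟶ X),
    g'.left = Spec.map (CommRingCat.ofHom φ.hom.toRingHom) ≫ g.left →
      e B g' = (Module.Grassmannian.functor (R := k) (M := M) n).map φ (e A g)

variable (D : Rep k M n)

/-- The submodule of a point. -/
def Rep.cls {A : Type u} [CommRing A] [Algebra k A] (g : Pt D.X A) : Module.Grassmannian A (A ⊗[k] M) n :=
  D.e (CommAlgCat.of k A) g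

theorem Rep.cls_injective {A : Type u} [CommRing A] [Algebra k A] {g g' : Pt D.X A} (h : D.cls g = D.cls g') :
    g = g' := (D.e (CommAlgCat.of k A)).injective h

theorem Rep.cls_comp {A B : Type u} [CommRing A] [Algebra k A] [CommRing B] [Algebra k B] (φ : A →ₐ[k] B)
    (g : Pt D.X A) (g' : Pt D.X B) (h : g'.left = Spec.map (CommRingCat.ofHom φ.toRingHom) ≫ g.left) :
    D.cls g' = Module.Grassmannian.map φ (D.cls g) :=
  D.he (CommAlgCat.of k A) (CommAlgCat.of k B) (CommAlgCat.ofHom φ) g g' h

theorem spec_algHom {A B : Type u} [CommRing A] [Algebra k A] [CommRing B] [Algebra k B] (φ : A →ₐ[k] B) :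
    Spec.map (CommRingCat.ofHom φ.toRingHom) ≫ Spec.map (CommRingCat.ofHom (algebraMap k A)) =
      Spec.map (CommRingCat.ofHom (algebraMap k B)) := by
  rw [← Spec.map_comp, ← CommRingCat.ofHom_comp]
  congr 2
  exact φ.comp_algebraMap

/-- A point pulled back along an algebra map. -/
def Rep.pb {A B : Type u} [CommRing A] [Algebra k A] [CommRing B] [Algebra k B] (φ : A →ₐ[k] B) (g : Pt D.X A) :
    Pt D.X B :=
  Over.homMk (Spec.map (CommRingCat.ofHom φ.toRingHom) ≫ g.left) (by
    rw [Category.assoc, Over.w g]; exact spec_algHom φ)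

theorem Rep.cls_pb {A B : Type u} [CommRing A] [Algebra k A] [CommRing B] [Algebra k B] (φ : A →ₐ[k] B)
    (g : Pt D.X A) : D.cls (D.pb φ g) = Module.Grassmannian.map φ (D.cls g) :=
  D.cls_comp φ g _ rfl

variable (I : Fin n → Fin N)

/-- The relations normalising the columns `I`. -/
def rel : Ideal (MvPolynomial (Fin n × Fin N) k) :=
  Ideal.span (Set.range fun rc : Fin n × Fin n =>
    MvPolynomial.X (rc.1, I rc.2) - MvPolynomial.C ((1 : Matrix (Fin n) (Fin n) k) rc.1 rc.2))

/-- The ring of the chart. -/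
abbrev Ch : Type u := MvPolynomial (Fin n × Fin N) k ⧸ rel (k := k) I

/-- The universal normalised matrix. -/
def univ : Matrix (Fin n) (Fin N) (Ch (k := k) I) := fun r l => Ideal.Quotient.mk _ (MvPolynomial.X (r, l))

theorem normed_univ : Normed I (univ (k := k) I) := by
  refine Matrix.ext fun r r' => ?_
  show Ideal.Quotient.mk _ (MvPolynomial.X (r, I r')) = _
  have h : Ideal.Quotient.mk (rel (k := k) I) (MvPolynomial.X (r, I r')) =
      Ideal.Quotient.mk _ (MvPolynomial.C ((1 : Matrix (Fin n) (Fin n) k) r r')) :=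
    Ideal.Quotient.eq.2 (Ideal.subset_span ⟨(r, r'), rfl⟩)
  rw [h, Matrix.one_apply, Matrix.one_apply]
  split_ifs <;> simp

theorem exists_hom {A : Type u} [CommRing A] [Algebra k A] (P : Matrix (Fin n) (Fin N) A) (hP : Normed I P) :
    ∃ ψ : Ch (k := k) I →ₐ[k] A, (univ (k := k) I).map ψ = P := by
  refine ⟨Ideal.Quotient.liftₐ (rel (k := k) I) (MvPolynomial.aeval (R := k) fun rl : Fin n × Fin N => P rl.1 rl.2) ?_, Matrix.ext fun r l => ?_⟩
  · refine fun x hx => (Ideal.span_le.2 ?_ : rel (k := k) I ≤ RingHom.ker (MvPolynomial.aeval (R := k) fun rl : Fin n × Fin N => P rl.1 rl.2)) hx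
    rintro _ ⟨⟨r, r'⟩, rfl⟩
    rw [SetLike.mem_coe, RingHom.mem_ker, map_sub, MvPolynomial.aeval_X, MvPolynomial.aeval_C,
      show P r (I r') = (P.submatrix id I) r r' from rfl, hP, Matrix.one_apply, Matrix.one_apply]
    split_ifs <;> simp
  · rw [Matrix.map_apply]
    exact MvPolynomial.aeval_X _ _

theorem hom_unique {A : Type u} [CommRing A] [Algebra k A] (ψ ψ' : Ch (k := k) I →ₐ[k] A)
    (h : (univ (k := k) I).map ψ = (univ (k := k) I).map ψ') : ψ = ψ' :=
  Ideal.Quotient.algHom_ext _ (MvPolynomial.algHom_ext fun rl => congrFun (congrFun h rl.1) rl.2)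

variable (b : Module.Basis (Fin N) k M)

/-- The chart. -/
def chartPt : Pt D.X (Ch (k := k) I) :=
  (D.e (CommAlgCat.of k (Ch (k := k) I))).symm (gr b (univ (k := k) I) (normed_univ I))

theorem cls_chartPt : D.cls (chartPt D I b) = gr b (univ (k := k) I) (normed_univ I) :=
  Equiv.apply_symm_apply _ _

/-- The chart morphism. -/
abbrev σ : Spec (CommRingCat.of (Ch (k := k) I)) ⟶ D.X.left := (chartPt D I b).left

theorem cls_of_factor {A : Type u} [CommRing A] [Algebra k A] (g : Pt D.X A) (ψ : Ch (k := k) I →ₐ[k] A)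
    (h : g.left = Spec.map (CommRingCat.ofHom ψ.toRingHom) ≫ σ D I b) :
    D.cls g = gr b ((univ (k := k) I).map ψ) ((normed_univ I).map ψ.toRingHom) := by
  rw [D.cls_comp ψ _ g h, cls_chartPt, map_gr]

theorem exists_factor {A : Type u} [CommRing A] [Algebra k A] (g : Pt D.X A)
    (h : Spans b I (D.cls g).toSubmodule) :
    ∃ ψ : Ch (k := k) I →ₐ[k] A, g.left = Spec.map (CommRingCat.ofHom ψ.toRingHom) ≫ σ D I b := by
  obtain ⟨P, hP, hPg⟩ := exists_eq_gr b (D.cls g) h
  obtain ⟨ψ, rfl⟩ := exists_hom (k := k) I P hP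
  refine ⟨ψ, ?_⟩
  have : D.pb ψ (chartPt D I b) = g := D.cls_injective (by rw [D.cls_pb, cls_chartPt, map_gr]; exact hPg)
  exact (congrArg CommaMorphism.left this).symm

theorem factor_unique {A : Type u} [CommRing A] [Algebra k A] (ψ ψ' : Ch (k := k) I →ₐ[k] A)
    (h : Spec.map (CommRingCat.ofHom ψ.toRingHom) ≫ σ D I b = Spec.map (CommRingCat.ofHom ψ'.toRingHom) ≫ σ D I b) :
    ψ = ψ' := by
  refine hom_unique I ψ ψ' (gr_injective b ((normed_univ I).map ψ.toRingHom) ((normed_univ I).map ψ'.toRingHom) ?_)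
  rw [← cls_of_factor D I b (D.pb ψ (chartPt D I b)) ψ rfl,
    ← cls_of_factor D I b (D.pb ψ (chartPt D I b)) ψ' h]

theorem σ_hom : σ D I b ≫ D.X.hom = Spec.map (CommRingCat.ofHom (algebraMap k (Ch (k := k) I))) :=
  Over.w (chartPt D I b)

/-- An affine piece mapping to the chart is given by an algebra map. -/
theorem exists_algHom {R : CommRingCat.{u}} (a : Spec R ⟶ Spec (CommRingCat.of (Ch (k := k) I))) [Algebra k R]
    (h : a ≫ Spec.map (CommRingCat.ofHom (algebraMap k (Ch (k := k) I))) =
      Spec.map (CommRingCat.ofHom (algebraMap k R))) :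
    ∃ ψ : Ch (k := k) I →ₐ[k] R, a = Spec.map (CommRingCat.ofHom ψ.toRingHom) := by
  rw [← Spec.map_preimage a, ← Spec.map_comp] at h
  exact ⟨{ (Spec.preimage a).hom with commutes' := fun c => ConcreteCategory.congr_hom (Spec.map_injective h) c },
    (Spec.map_preimage a).symm⟩

theorem mono_σ : Mono (σ D I b) := by
  refine ⟨fun {T} u u' h => T.affineCover.hom_ext _ _ fun i => ?_⟩
  let t := T.affineCover.f i ≫ u ≫ σ D I b ≫ D.X.hom
  let R := T.affineOpenCover.X i
  letI : Algebra k R := (Spec.preimage (R := CommRingCat.of k) (S := R) t).hom.toAlgebra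
  have ht : Spec.map (CommRingCat.ofHom (algebraMap k R)) = t := Spec.map_preimage t
  have hu : (T.affineCover.f i ≫ u) ≫ Spec.map (CommRingCat.ofHom (algebraMap k (Ch (k := k) I))) = t := by
    rw [← σ_hom D I b, Category.assoc]
  have hu' : (T.affineCover.f i ≫ u') ≫ Spec.map (CommRingCat.ofHom (algebraMap k (Ch (k := k) I))) = t := by
    rw [← σ_hom D I b, Category.assoc, ← Category.assoc u', ← h, Category.assoc]
  obtain ⟨ψ, hψ⟩ := exists_algHom I (R := R) (T.affineCover.f i ≫ u) (hu.trans ht.symm)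
  obtain ⟨ψ', hψ'⟩ := exists_algHom I (R := R) (T.affineCover.f i ≫ u') (hu'.trans ht.symm)
  rw [hψ, hψ', factor_unique D I b ψ ψ' ?_]
  rw [← hψ, ← hψ', Category.assoc, Category.assoc, h]

/-- The point with values in a field given by a morphism. -/
theorem mem_range_of_spans {K : Type u} [Field K] [Algebra k K] (g : Pt D.X K)
    (h : Spans b I (D.cls g).toSubmodule) (o : Spec (CommRingCat.of K)) :
    g.left o ∈ Set.range (σ D I b) := by
  obtain ⟨ψ, hψ⟩ := exists_factor D I b g h
  exact ⟨Spec.map (CommRingCat.ofHom ψ.toRingHom) o, (congrArg (fun φ : _ ⟶ D.X.left => φ o) hψ).symm⟩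

theorem isOpenImmersion_snd {R : CommRingCat.{u}} [Algebra k R] (j : Spec R ⟶ D.X.left)
    (ht : Spec.map (CommRingCat.ofHom (algebraMap k R)) = j ≫ D.X.hom) :
    IsOpenImmersion (pullback.snd (σ D I b) j) := by
  haveI := mono_σ D I b
  let g₀ : Pt D.X R := Over.homMk j ht.symm
  let good : R → Prop := fun f =>
    Spans b I (Module.Grassmannian.map (IsScalarTower.toAlgHom k R (Localization.Away f)) (D.cls g₀)).toSubmodule
  let W : (Spec R).Opens := ⨆ f : {f : R // good f}, PrimeSpectrum.basicOpen f.1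
  let pr := pullback.snd (σ D I b) j
  haveI : Mono pr := inferInstanceAs (Mono (pullback.snd (σ D I b) j))
  have hrange : Set.range pr ⊆ Set.range W.ι := by
    rintro _ ⟨x, rfl⟩
    rw [Scheme.Opens.range_ι]
    let P := pullback (σ D I b) j
    let K := P.residueField x
    let a : Spec K ⟶ P := P.fromSpecResidueField x
    let φR := (Spec.preimage (R := R) (S := K) (a ≫ pr)).hom
    letI : Algebra k K := (φR.comp (algebraMap k R)).toAlgebra
    let φ : R →ₐ[k] K := { φR with commutes' := fun c => rfl }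
    have hφ : Spec.map (CommRingCat.ofHom φ.toRingHom) = a ≫ pr := Spec.map_preimage _
    let g := D.pb φ g₀
    have hg : g.left = (a ≫ pullback.fst (σ D I b) j) ≫ σ D I b := by
      show Spec.map (CommRingCat.ofHom φ.toRingHom) ≫ j = _
      rw [hφ, Category.assoc, Category.assoc, pullback.condition]
    obtain ⟨ψ, hψ⟩ := exists_algHom I (R := K) (a ≫ pullback.fst (σ D I b) j) (by
      rw [← σ_hom D I b, ← Category.assoc, ← hg]; exact Over.w g)
    have hs : Spans b I (Module.Grassmannian.map φ (D.cls g₀)).toSubmodule := by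
      rw [← D.cls_pb, cls_of_factor D I b g ψ (by rw [hg, hψ])]
      exact spans_gr b _ _
    obtain ⟨f, hf, hmem⟩ := exists_smul_mem_of_spans b φ (D.cls g₀) hs
    have hgood : good f := spans_of_smul_mem b _ (D.cls g₀) f (IsLocalization.Away.algebraMap_isUnit f) hmem
    obtain ⟨o⟩ : Nonempty (Spec K) := ⟨IsLocalRing.closedPoint K⟩
    have ho : a o = x := Scheme.fromSpecResidueField_apply x o
    refine Opens.mem_iSup.2 ⟨⟨f, hgood⟩, ?_⟩
    rw [← ho, ← Scheme.Hom.comp_apply, ← hφ]
    show f ∉ ((Spec.map (CommRingCat.ofHom φ.toRingHom)) o).asIdeal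
    intro hmem'
    have : φ f ∈ o.asIdeal := hmem'
    exact o.isPrime.ne_top (Ideal.eq_top_of_isUnit_mem _ this (isUnit_iff_ne_zero.2 hf))
  let pr' := IsOpenImmersion.lift W.ι pr hrange
  have hpr' : pr' ≫ W.ι = pr := IsOpenImmersion.lift_fac _ _ _
  haveI : Mono pr' := mono_of_mono_fac hpr'
  let jf : ∀ f : {f : R // good f}, Spec (CommRingCat.of (Localization.Away f.1)) ⟶ Spec R :=
    fun f => Spec.map (CommRingCat.ofHom (algebraMap R (Localization.Away f.1)))
  haveI : ∀ f, IsOpenImmersion (jf f) := fun f => IsOpenImmersion.of_isLocalization f.1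
  have hjr : ∀ f, Set.range (jf f) = ((PrimeSpectrum.basicOpen f.1 : Opens (PrimeSpectrum R)) : Set (PrimeSpectrum R)) := fun f =>
    PrimeSpectrum.localization_away_comap_range (Localization.Away f.1) f.1
  have hjW : ∀ f, Set.range (jf f) ⊆ Set.range W.ι := fun f => by
    rw [Scheme.Opens.range_ι, hjr]
    exact le_iSup (fun f : {f : R // good f} => PrimeSpectrum.basicOpen f.1) f
  let cov : W.toScheme.OpenCover :=
    { I₀ := {f : R // good f}
      X := fun f => Spec (CommRingCat.of (Localization.Away f.1))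
      f := fun f => IsOpenImmersion.lift W.ι (jf f) (hjW f)
      mem₀ := by
        rw [Scheme.ofArrows_mem_precoverage_iff]
        refine ⟨fun z => ?_, fun f => ?_⟩
        · obtain ⟨f, hf⟩ := Opens.mem_iSup.1 z.2
          obtain ⟨w, hw⟩ := (hjr f).ge hf
          refine ⟨f, w, W.ι.injective ?_⟩
          rw [← Scheme.Hom.comp_apply, IsOpenImmersion.lift_fac, hw]
          rfl
        · haveI : IsOpenImmersion (IsOpenImmersion.lift W.ι (jf f) (hjW f) ≫ W.ι) := by
            rw [IsOpenImmersion.lift_fac]; infer_instance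
          exact IsOpenImmersion.of_comp _ W.ι }
  haveI : IsIso pr' := by
    show MorphismProperty.isomorphisms Scheme pr'
    refine IsZariskiLocalAtTarget.of_openCover cov fun f => ?_
    show IsIso (pullback.snd pr' (cov.f f))
    let φ := IsScalarTower.toAlgHom k R (Localization.Away f.1)
    obtain ⟨ψ, hψ⟩ := exists_factor D I b (D.pb φ g₀) (by rw [D.cls_pb]; exact f.2)
    let s : Spec (CommRingCat.of (Localization.Away f.1)) ⟶ pullback (σ D I b) j :=
      pullback.lift (Spec.map (CommRingCat.ofHom ψ.toRingHom)) (jf f) hψ.symm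
    have hs : s ≫ pr' = cov.f f := by
      refine (cancel_mono W.ι).1 ?_
      rw [Category.assoc, hpr', pullback.lift_snd]
      exact (IsOpenImmersion.lift_fac _ _ _).symm
    haveI : IsSplitEpi (pullback.snd pr' (cov.f f)) :=
      IsSplitEpi.mk' ⟨pullback.lift s (𝟙 _) (by rw [hs, Category.id_comp]), pullback.lift_snd _ _ _⟩
    exact isIso_of_mono_of_isSplitEpi _
  show IsOpenImmersion pr
  rw [← hpr']
  infer_instance

theorem isOpenImmersion_σ : IsOpenImmersion (σ D I b) := by
  refine IsZariskiLocalAtTarget.of_openCover D.X.left.affineCover fun i => ?_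
  letI : Algebra k (D.X.left.affineOpenCover.X i) :=
    (Spec.preimage (R := CommRingCat.of k) (S := D.X.left.affineOpenCover.X i)
      (D.X.left.affineCover.f i ≫ D.X.hom)).hom.toAlgebra
  exact isOpenImmersion_snd D I b (R := D.X.left.affineOpenCover.X i) (D.X.left.affineCover.f i) (Spec.map_preimage _)

theorem exists_mem_range {K : Type u} [Field K] [Algebra k K] (g : Pt D.X K) (o : Spec (CommRingCat.of K)) :
    ∃ I : Fin n → Fin N, Function.Injective I ∧ g.left o ∈ Set.range (σ D I b) := by
  obtain ⟨I, hI, h⟩ := exists_spans b (D.cls g)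
  exact ⟨I, hI, mem_range_of_spans D I b g h o⟩

end Groth.Agent.GrPlucker
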