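import Groth.Agent.GrPlucker.Charts
import Groth.Agent.ProjPt.Poly
import Groth.Agent.ProjPt.Sections
import Groth.Agent.PicGlue.ProjSpaceBC

/-!
# The Plücker embedding
-/

set_option autoImplicit false
set_option linter.style.haveILetI false
set_option linter.unusedSectionVars false
set_option backward.isDefEq.respectTransparency false
set_option backward.isDefEq.respectTransparency.types false

universe u

open CategoryTheory CategoryTheory.Limits AlgebraicGeometry TensorProduct TopologicalSpace HomogeneousLocalization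

noncomputable section

namespace Groth.Agent.GrPlucker

open Groth.Agent Groth.Agent.ProjPt

variable {N n d : ℕ} (ι : Fin (d + 1) ≃ {s : Finset (Fin N) // s.card = n})

/-- The columns of an index. -/
def cols (t : Fin (d + 1)) : Fin n → Fin N := fun r => (ι t).1.orderEmbOfFin (ι t).2 r

theorem range_cols (t : Fin (d + 1)) : Set.range (cols ι t) = ((ι t).1 : Set (Fin N)) :=
  Finset.range_orderEmbOfFin _ _

theorem exists_cols {f : Fin n → Fin N} (hf : Function.Injective f) :
    ∃ (t : Fin (d + 1)) (p : Equiv.Perm (Fin n)), f = cols ι t ∘ p := by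
  classical
  let s : Finset (Fin N) := Finset.univ.image f
  have hs : s.card = n := by rw [Finset.card_image_of_injective _ hf]; simp
  refine ⟨ι.symm ⟨s, hs⟩, ?_⟩
  have hr : ∀ r, ∃ q, cols ι (ι.symm ⟨s, hs⟩) q = f r := fun r => by
    have : f r ∈ Set.range (cols ι (ι.symm ⟨s, hs⟩)) := by
      rw [range_cols, Equiv.apply_symm_apply]
      simp [s]
    exact this
  choose p hp using hr
  have hinj : Function.Injective p := fun a c h => hf (by rw [← hp, ← hp, h])
  exact ⟨Equiv.ofBijective p ((Fintype.bijective_iff_injective_and_card p).2 ⟨hinj, rfl⟩), funext fun r => (hp r).symm⟩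

variable {A : Type u} [CommRing A]

/-- A Plücker coordinate. -/
def pl (P : Matrix (Fin n) (Fin N) A) (t : Fin (d + 1)) : A := (P.submatrix id (cols ι t)).det

theorem pl_map {B : Type u} [CommRing B] (φ : A →+* B) (P : Matrix (Fin n) (Fin N) A) (t : Fin (d + 1)) :
    pl ι (P.map φ) t = φ (pl ι P t) := by
  rw [pl, pl, RingHom.map_det]
  rfl

theorem pl_self {P : Matrix (Fin n) (Fin N) A} {t : Fin (d + 1)} (hP : Normed (cols ι t) P) : pl ι P t = 1 := by
  rw [pl, hP, Matrix.det_one]

theorem pl_mul (G : Matrix (Fin n) (Fin n) A) (P : Matrix (Fin n) (Fin N) A) (t : Fin (d + 1)) :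
    pl ι (G * P) t = G.det * pl ι P t := by
  rw [pl, pl, ← Matrix.det_mul]
  rfl

theorem entry_eq_det {I : Fin n → Fin N} {P : Matrix (Fin n) (Fin N) A} (hP : Normed I P) (r : Fin n) (l : Fin N) :
    P r l = (P.submatrix id (Function.update I r l)).det := by
  classical
  have h : P.submatrix id (Function.update I r l) = Matrix.updateCol (1 : Matrix (Fin n) (Fin n) A) r (fun a => P a l) := by
    refine Matrix.ext fun a c => ?_
    rw [Matrix.updateCol_apply, Matrix.submatrix_apply, id_eq]
    by_cases hc : c = r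
    · rw [if_pos hc, hc, Function.update_self]
    · rw [if_neg hc, Function.update_of_ne hc, show P a (I c) = (P.submatrix id I) a c from rfl, hP]
  rw [h, ← Matrix.cramer_apply, Matrix.cramer_one]
  rfl

variable {k : Type u} [CommRing k] {M : Type u} [AddCommGroup M] [Module k M]
  (b : Module.Basis (Fin N) k M) (D : Rep k M n)

/-- The coordinates on a chart. -/
def ev (t : Fin (d + 1)) : MvPolynomial (Fin (d + 1)) k →+* Ch (k := k) (cols ι t) :=
  MvPolynomial.eval₂Hom (algebraMap k _) (fun l => pl ι (univ (k := k) (cols ι t)) l)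

theorem ev_self (t : Fin (d + 1)) : ev (k := k) ι t (MvPolynomial.X t) = 1 := by
  rw [ev, MvPolynomial.eval₂Hom_X', pl_self ι (normed_univ _)]

/-- The map of rings on a chart. -/
def wHom (t : Fin (d + 1)) : Away (CohB1.polyGrading d k) (MvPolynomial.X t) →+* Ch (k := k) (cols ι t) :=
  coordHom (CohB1.polyGrading d k) (ev ι t) (t := MvPolynomial.X t) (by rw [ev_self]; exact isUnit_one)

theorem wHom_surjective (t : Fin (d + 1)) : Function.Surjective (wHom (k := k) ι t) := by
  classical
  have hc : ∀ c, wHom (k := k) ι t (cst t c) = algebraMap k _ c := fun c => by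
    rw [wHom, coordHom_cst, ev, MvPolynomial.eval₂Hom_C]
  have hl : ∀ l, wHom (k := k) ι t (crd t l) = pl ι (univ (k := k) (cols ι t)) l := fun l => by
    rw [wHom, coordHom_crd _ t _ (ev_self ι t), ev, MvPolynomial.eval₂Hom_X']
  have hgen : ∀ r l, univ (k := k) (cols ι t) r l ∈ (wHom (k := k) ι t).range := fun r l => by
    by_cases hl' : l ∈ Set.range (cols ι t)
    · obtain ⟨c, rfl⟩ := hl'
      rw [show univ (k := k) (cols ι t) r (cols ι t c) = ((univ (k := k) (cols ι t)).submatrix id (cols ι t)) r c from rfl,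
        normed_univ, Matrix.one_apply]
      split_ifs
      · exact one_mem _
      · exact zero_mem _
    · have hinj : Function.Injective (Function.update (cols ι t) r l) := fun a c h => by
        by_cases ha : a = r <;> by_cases hc : c = r
        · rw [ha, hc]
        · subst ha; rw [Function.update_self, Function.update_of_ne hc] at h
          exact absurd ⟨c, h.symm⟩ hl'
        · subst hc; rw [Function.update_self, Function.update_of_ne ha] at h
          exact absurd ⟨a, h⟩ hl'
        · rw [Function.update_of_ne ha, Function.update_of_ne hc] at h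
          exact ((ι t).1.orderEmbOfFin (ι t).2).injective h
      obtain ⟨u, p, hp⟩ := exists_cols ι hinj
      rw [entry_eq_det (normed_univ _) r l, hp,
        show (univ (k := k) (cols ι t)).submatrix id (cols ι u ∘ p) =
          ((univ (k := k) (cols ι t)).submatrix id (cols ι u)).submatrix id p from rfl, Matrix.det_permute']
      exact mul_mem ⟨((Equiv.Perm.sign p : ℤ) : Away (CohB1.polyGrading d k) (MvPolynomial.X t)), by simp⟩ ⟨_, hl u⟩
  intro x
  obtain ⟨p, rfl⟩ := Ideal.Quotient.mk_surjective x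
  refine RingHom.mem_range.1 ?_
  induction p using MvPolynomial.induction_on with
  | C c => exact ⟨cst t c, hc c⟩
  | add p q hp hq => rw [map_add]; exact add_mem hp hq
  | mul_X p rl hp => rw [map_mul]; exact mul_mem hp (hgen rl.1 rl.2)

/-- The morphism on a chart. -/
def piece (t : Fin (d + 1)) : Spec (CommRingCat.of (Ch (k := k) (cols ι t))) ⟶ CohB1.ProjSpace d k :=
  Spec.map (CommRingCat.ofHom (wHom ι t)) ≫ Proj.awayι (CohB1.polyGrading d k) (MvPolynomial.X t) (X_mem t) one_pos

/-- The functions on `Spec A`. -/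
abbrev inc (A : Type u) [CommRing A] : A →+* Γ(Spec (CommRingCat.of A), ⊤) :=
  (Scheme.ΓSpecIso (CommRingCat.of A)).inv.hom

theorem piece_eq_pt (t : Fin (d + 1)) :
    piece (k := k) ι t = pt (CohB1.polyGrading d k) ((inc _).comp (ev ι t)) (X_mem t) one_pos
      (by rw [RingHom.comp_apply, ev_self, map_one]; exact isUnit_one) := by
  rw [pt, ← comp_coordHom _ _ _ (t := MvPolynomial.X t) (by rw [ev_self]; exact isUnit_one), CommRingCat.ofHom_comp,
    Spec.map_comp, Category.assoc, ← Category.assoc (Scheme.toSpecΓ _), CommRingCat.ofHom_hom,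
    toSpecΓ_SpecMap_ΓSpecIso_inv, Category.id_comp]
  rfl

theorem comp_piece {R : CommRingCat.{u}} [Algebra k R] (t : Fin (d + 1)) (ψ : Ch (k := k) (cols ι t) →ₐ[k] R)
    (h : IsUnit ((inc R) (ψ (pl ι (univ (k := k) (cols ι t)) t)))) :
    Spec.map (CommRingCat.ofHom ψ.toRingHom) ≫ piece ι t =
      pt (CohB1.polyGrading d k) (MvPolynomial.eval₂Hom ((inc R).comp (algebraMap k R))
        (fun l => inc R (pl ι ((univ (k := k) (cols ι t)).map ψ) l))) (W := Spec R) (X_mem t) one_pos
        ((congrArg IsUnit (MvPolynomial.eval₂Hom_X' _ _ t)).mpr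
          ((congrArg (fun z => IsUnit (inc R z)) (pl_map ι ψ.toRingHom _ t)).mpr h)) := by
  rw [piece_eq_pt, comp_pt]
  refine pt_congr _ _ _ ?_ _ _ _ _
  have hn : ∀ c, (Spec.map (CommRingCat.ofHom ψ.toRingHom)).appTop (inc _ c) = inc R (ψ c) := fun c =>
    (ConcreteCategory.congr_hom (Scheme.ΓSpecIso_inv_naturality (CommRingCat.ofHom ψ.toRingHom)) c).symm
  refine MvPolynomial.ringHom_ext (fun c => ?_) fun l => ?_
  · simp only [RingHom.comp_apply, ev, MvPolynomial.eval₂Hom_C]
    exact (hn _).trans (congrArg _ (ψ.commutes c))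
  · simp only [RingHom.comp_apply, ev, MvPolynomial.eval₂Hom_X']
    exact (hn _).trans (congrArg _ (pl_map ι ψ.toRingHom _ l).symm)

theorem piece_compat {T : Scheme.{u}} (t t' : Fin (d + 1)) (a : T ⟶ Spec (CommRingCat.of (Ch (k := k) (cols ι t))))
    (a' : T ⟶ Spec (CommRingCat.of (Ch (k := k) (cols ι t')))) (h : a ≫ σ D (cols ι t) b = a' ≫ σ D (cols ι t') b) :
    a ≫ piece ι t = a' ≫ piece ι t' := by
  refine T.affineCover.hom_ext _ _ fun i => ?_
  let R := T.affineOpenCover.X i
  letI : Algebra k R := (Spec.preimage (R := CommRingCat.of k) (S := R)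
    (T.affineCover.f i ≫ a ≫ σ D (cols ι t) b ≫ D.X.hom)).hom.toAlgebra
  have ht : Spec.map (CommRingCat.ofHom (algebraMap k R)) = T.affineCover.f i ≫ a ≫ σ D (cols ι t) b ≫ D.X.hom :=
    Spec.map_preimage _
  obtain ⟨ψ, hψ⟩ := exists_algHom (cols ι t) (R := R) (T.affineCover.f i ≫ a) (by
    rw [ht, Category.assoc, ← σ_hom D (cols ι t) b])
  obtain ⟨ψ', hψ'⟩ := exists_algHom (cols ι t') (R := R) (T.affineCover.f i ≫ a') (by
    rw [ht, Category.assoc, ← σ_hom D (cols ι t') b, reassoc_of% h])
  let P := (univ (k := k) (cols ι t)).map ψ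
  let P' := (univ (k := k) (cols ι t')).map ψ'
  have hP : Normed (cols ι t) P := (normed_univ _).map ψ.toRingHom
  have hP' : Normed (cols ι t') P' := (normed_univ _).map ψ'.toRingHom
  have hg : gr b P hP = gr b P' hP' := by
    rw [← cls_of_factor D _ b (D.pb ψ (chartPt D (cols ι t) b)) ψ rfl]
    refine cls_of_factor D _ b _ ψ' ?_
    show Spec.map (CommRingCat.ofHom ψ.toRingHom) ≫ σ D (cols ι t) b = _
    rw [← hψ, ← hψ', Category.assoc, Category.assoc, h]
  have hGP : P' = P'.submatrix id (cols ι t) * P :=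
    eq_mul_of_ker b hP (P' := P') (congrArg Module.Grassmannian.toSubmodule hg).le
  rw [← Category.assoc, ← Category.assoc, hψ, hψ', comp_piece ι t ψ ((congrArg (fun z => IsUnit (inc R z)) (pl_map ι ψ.toRingHom _ t)).mp (by rw [pl_self ι ((normed_univ _).map ψ.toRingHom), map_one]; exact isUnit_one)),
    comp_piece ι t' ψ' ((congrArg (fun z => IsUnit (inc R z)) (pl_map ι ψ'.toRingHom _ t')).mp (by rw [pl_self ι ((normed_univ _).map ψ'.toRingHom), map_one]; exact isUnit_one))]
  refine (pt_scale_eval _ _ _ (inc R (P'.submatrix id (cols ι t)).det) (fun l => ?_) t t' _ _).symm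
  rw [← map_mul]
  exact congrArg _ ((congrArg (fun Q => pl ι Q l) hGP).trans (pl_mul ι _ P l))

theorem piece_toSpec (t : Fin (d + 1)) :
    piece (k := k) ι t ≫ CohB1.ProjSpace.toSpec d k = σ D (cols ι t) b ≫ D.X.hom := by
  rw [σ_hom, piece_eq_pt]
  show pt _ _ _ _ _ ≫ Proj.toSpecZero _ ≫ Spec.map _ = _
  rw [← Category.assoc, pt_toSpecZero, Category.assoc, ← Spec.map_comp, ← CommRingCat.ofHom_comp]
  have e : (((inc _).comp (ev (k := k) ι t)).comp (algebraMap (CohB1.polyGrading d k 0) _)).comp
      (algebraMap k (CohB1.polyGrading d k 0)) = (inc _).comp (algebraMap k (Ch (k := k) (cols ι t))) := by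
    refine RingHom.ext fun c => ?_
    simp only [RingHom.comp_apply, ev]
    exact congrArg _ (MvPolynomial.eval₂Hom_C _ _ c)
  rw [e, CommRingCat.ofHom_comp, Spec.map_comp, ← Category.assoc, CommRingCat.ofHom_hom,
    toSpecΓ_SpecMap_ΓSpecIso_inv, Category.id_comp]

end Groth.Agent.GrPlucker

namespace Groth.Agent.GrPlucker

open Groth.Agent Groth.Agent.ProjPt

variable {N n d : ℕ} (ι : Fin (d + 1) ≃ {s : Finset (Fin N) // s.card = n})
  {k : Type u} [CommRing k] {M : Type u} [AddCommGroup M] [Module k M]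
  (b : Module.Basis (Fin N) k M) (D : Rep k M n)

theorem exists_chart_mem (x : D.X.left) : ∃ t, x ∈ Set.range (σ D (cols ι t) b) := by
  let K := D.X.left.residueField x
  letI : Algebra k K := (Spec.preimage (R := CommRingCat.of k) (S := K)
    (D.X.left.fromSpecResidueField x ≫ D.X.hom)).hom.toAlgebra
  let g : Pt D.X K := Over.homMk (D.X.left.fromSpecResidueField x) (Spec.map_preimage _).symm
  obtain ⟨I, hI, hs⟩ := exists_spans b (D.cls g)
  obtain ⟨t, p, rfl⟩ := exists_cols ι hI
  have hs' : Spans b (cols ι t) (D.cls g).toSubmodule := by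
    rw [Spans] at hs ⊢
    rwa [show (fun r => (1 : K) ⊗ₜ[k] b ((cols ι t ∘ p) r)) = (fun r => (1 : K) ⊗ₜ[k] b (cols ι t r)) ∘ p from rfl,
      p.surjective.range_comp] at hs
  obtain ⟨o⟩ : Nonempty (Spec K) := ⟨IsLocalRing.closedPoint K⟩
  refine ⟨t, ?_⟩
  have := mem_range_of_spans D (cols ι t) b g hs' o
  rwa [show g.left o = x from Scheme.fromSpecResidueField_apply x o] at this

/-- The cover by charts. -/
def cov : D.X.left.OpenCover where
  I₀ := ULift.{u} (Fin (d + 1))
  X t := Spec (CommRingCat.of (Ch (k := k) (cols ι t.down)))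
  f t := σ D (cols ι t.down) b
  mem₀ := by
    rw [Scheme.ofArrows_mem_precoverage_iff]
    refine ⟨fun x => ?_, fun t => isOpenImmersion_σ D _ b⟩
    obtain ⟨t, w, hw⟩ := exists_chart_mem ι b D x
    exact ⟨⟨t⟩, w, hw⟩

/-- The Plücker morphism. -/
def plucker : D.X.left ⟶ CohB1.ProjSpace d k :=
  (cov ι b D).glueMorphisms (fun t => piece ι t.down) fun t t' =>
    piece_compat ι b D t.down t'.down _ _ pullback.condition

theorem σ_plucker (t : Fin (d + 1)) : σ D (cols ι t) b ≫ plucker ι b D = piece ι t :=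
  Scheme.Cover.ι_glueMorphisms (cov ι b D) _ _ ⟨t⟩

theorem plucker_toSpec : plucker ι b D ≫ CohB1.ProjSpace.toSpec d k = D.X.hom := by
  refine (cov ι b D).hom_ext _ _ fun t => ?_
  rw [← Category.assoc]
  show (σ D (cols ι t.down) b ≫ plucker ι b D) ≫ _ = _
  rw [σ_plucker]
  exact piece_toSpec ι b D t.down

theorem spans_of_isUnit {K : Type u} [CommRing K] [Algebra k K] {I J : Fin n → Fin N}
    (P : Matrix (Fin n) (Fin N) K) (hP : Normed I P) (hu : IsUnit (P.submatrix id J).det) :
    Spans b J (gr b P hP).toSubmodule := by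
  let G := P.submatrix id J
  have hQ : Normed J (G⁻¹ * P) := by
    show G⁻¹ * G = 1
    exact Matrix.nonsing_inv_mul G hu
  have hk : (lin b (G⁻¹ * P)).ker = (lin b P).ker := by
    refine le_antisymm (fun x hx => ?_) (fun x hx => ?_)
    · have h : lin b P = G.mulVecLin ∘ₗ lin b (G⁻¹ * P) := by
        rw [← lin_mul, ← Matrix.mul_assoc, Matrix.mul_nonsing_inv G hu, Matrix.one_mul]
      rw [LinearMap.mem_ker] at hx ⊢
      rw [h, LinearMap.comp_apply, hx, map_zero]
    · rw [LinearMap.mem_ker] at hx ⊢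
      rw [lin_mul, LinearMap.comp_apply, hx, map_zero]
  have := spans_gr b (G⁻¹ * P) hQ
  rw [gr_toSubmodule, hk] at this
  exact this

theorem plucker_preimage (t : Fin (d + 1)) :
    (plucker ι b D ⁻¹ᵁ Proj.basicOpen (CohB1.polyGrading d k) (MvPolynomial.X t) : Set D.X.left) =
      Set.range (σ D (cols ι t) b) := by
  have hopen : ∀ u, piece (k := k) ι u ⁻¹ᵁ Proj.basicOpen (CohB1.polyGrading d k) (MvPolynomial.X t) =
      (Spec (CommRingCat.of (Ch (k := k) (cols ι u)))).basicOpen (inc _ (pl ι (univ (k := k) (cols ι u)) t)) := fun u => by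
    rw [piece_eq_pt, pt_preimage_basicOpen _ _ _ one_pos _ (X_mem t) one_pos, RingHom.comp_apply, ev,
      MvPolynomial.eval₂Hom_X']
  refine Set.ext fun x => ⟨fun hx => ?_, ?_⟩
  · obtain ⟨u, w, rfl⟩ := exists_chart_mem ι b D x
    have hx' : w ∈ (σ D (cols ι u) b ≫ plucker ι b D) ⁻¹ᵁ Proj.basicOpen (CohB1.polyGrading d k) (MvPolynomial.X t) := hx
    rw [σ_plucker, hopen u] at hx'
    let C := Spec (CommRingCat.of (Ch (k := k) (cols ι u)))
    let K := C.residueField w
    let φ := (Spec.preimage (R := CommRingCat.of (Ch (k := k) (cols ι u))) (S := K) (C.fromSpecResidueField w)).hom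
    letI : Algebra k K := (φ.comp (algebraMap k _)).toAlgebra
    let ψ : Ch (k := k) (cols ι u) →ₐ[k] K := { φ with commutes' := fun _ => rfl }
    have hψ : Spec.map (CommRingCat.ofHom ψ.toRingHom) = C.fromSpecResidueField w := Spec.map_preimage _
    obtain ⟨o⟩ : Nonempty (Spec K) := ⟨IsLocalRing.closedPoint K⟩
    have ho : (Spec.map (CommRingCat.ofHom ψ.toRingHom)) o = w := by
      rw [hψ]; exact Scheme.fromSpecResidueField_apply w o
    have hne : ψ (pl ι (univ (k := k) (cols ι u)) t) ≠ 0 := fun h0 => by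
      rw [← ho] at hx'
      have h2 : o ∈ (Spec (CommRingCat.of K)).basicOpen
          ((Spec.map (CommRingCat.ofHom ψ.toRingHom)).appTop (inc _ (pl ι (univ (k := k) (cols ι u)) t))) := by
        rw [← Scheme.preimage_basicOpen_top]
        exact hx'
      rw [show (Spec.map (CommRingCat.ofHom ψ.toRingHom)).appTop (inc _ (pl ι (univ (k := k) (cols ι u)) t)) =
        inc K (ψ (pl ι (univ (k := k) (cols ι u)) t)) from
        (ConcreteCategory.congr_hom (Scheme.ΓSpecIso_inv_naturality (CommRingCat.ofHom ψ.toRingHom)) _).symm,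
        h0, map_zero, Scheme.basicOpen_zero] at h2
      exact h2
    have hs : Spans b (cols ι t) (D.cls (D.pb ψ (chartPt D (cols ι u) b))).toSubmodule := by
      rw [cls_of_factor D _ b _ ψ rfl]
      refine spans_of_isUnit b _ _ (isUnit_iff_ne_zero.2 ?_)
      show pl ι _ t ≠ 0
      exact (pl_map ι ψ.toRingHom _ t).trans_ne hne
    have := mem_range_of_spans D (cols ι t) b _ hs o
    rwa [show (D.pb ψ (chartPt D (cols ι u) b)).left o = σ D (cols ι u) b w from
      (Scheme.Hom.comp_apply (Spec.map (CommRingCat.ofHom ψ.toRingHom)) (σ D (cols ι u) b) o).trans (congrArg _ ho)] at this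
  · rintro ⟨w, rfl⟩
    show w ∈ (σ D (cols ι t) b ≫ plucker ι b D) ⁻¹ᵁ Proj.basicOpen (CohB1.polyGrading d k) (MvPolynomial.X t)
    rw [σ_plucker, hopen, pl_self ι (normed_univ _), map_one, Scheme.basicOpen_of_isUnit _ isUnit_one]
    trivial

theorem isClosedImmersion_plucker : IsClosedImmersion (plucker ι b D) := by
  letI g𝒜 : GradedRing (CohB1.polyGrading d k) := inferInstance
  refine IsZariskiLocalAtTarget.of_openCover (Proj.affineOpenCoverOfIrrelevantLESpan
    (CohB1.polyGrading d k) _ (fun t => X_mem t) (fun _ => one_pos)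
    (SegreX.irrelevant_le_span _ _)).openCover fun t => ?_
  haveI := isOpenImmersion_σ D (cols ι t) b
  have sq : IsPullback (Spec.map (CommRingCat.ofHom (wHom (k := k) ι t))) (σ D (cols ι t) b)
      (Proj.awayι (CohB1.polyGrading d k) (MvPolynomial.X t) (X_mem t) one_pos) (plucker ι b D) := by
    refine IsOpenImmersion.isPullback _ _ _ _ (σ_plucker ι b D t) ?_
    rw [Proj.opensRange_awayι]
    exact SetLike.coe_injective (plucker_preimage ι b D t)
  change IsClosedImmersion (pullback.snd (plucker ι b D)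
    (Proj.awayι (CohB1.polyGrading d k) (MvPolynomial.X t) (X_mem t) one_pos))
  rw [← sq.flip.isoPullback_inv_snd]
  exact (MorphismProperty.cancel_left_of_respectsIso @IsClosedImmersion _ _).mpr
    (IsClosedImmersion.spec_of_surjective _ (wHom_surjective ι t))

theorem exists_closedImmersion {N n : ℕ} {k : Type u} [CommRing k] {M : Type u} [AddCommGroup M] [Module k M]
    (b : Module.Basis (Fin N) k M) (D : Rep k M n) (hn : n ≤ N) :
    ∃ c : D.X.left ⟶ CohB1.ProjSpaceOver (N.choose n - 1) (Spec (CommRingCat.of k)),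
      IsClosedImmersion c ∧ c ≫ CohB1.ProjSpaceOver.toBase (N.choose n - 1) (Spec (CommRingCat.of k)) = D.X.hom := by
  have hpos : 0 < N.choose n := Nat.choose_pos hn
  have hcard : Fintype.card {s : Finset (Fin N) // s.card = n} = N.choose n - 1 + 1 := by
    rw [Fintype.card_finset_len, Fintype.card_fin]; omega
  let ι : Fin (N.choose n - 1 + 1) ≃ {s : Finset (Fin N) // s.card = n} :=
    (Fintype.equivFinOfCardEq hcard).symm
  obtain ⟨e, he⟩ := PicGlue.exists_projSpace_iso (N.choose n - 1) k
  haveI := isClosedImmersion_plucker ι b D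
  exact ⟨plucker ι b D ≫ e.hom, inferInstance, by rw [Category.assoc, he, plucker_toSpec]⟩

end Groth.Agent.GrPlucker
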