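import Groth.Agent.GrPlucker.Embedding
import Mathlib.AlgebraicGeometry.Morphisms.Smooth
import Mathlib.AlgebraicGeometry.AffineSpace

/-!
# The charts of the Grassmannian are affine spaces
-/

set_option autoImplicit false
set_option linter.style.haveILetI false
set_option linter.unusedSectionVars false
set_option backward.isDefEq.respectTransparency false
set_option backward.isDefEq.respectTransparency.types false

universe u

open CategoryTheory CategoryTheory.Limits AlgebraicGeometry TopologicalSpace

noncomputable section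

namespace Groth.Agent.GrPlucker

theorem isStdSmooth_mvPolynomial (R : Type u) [CommRing R] (n : ℕ) :
    Algebra.IsStandardSmoothOfRelativeDimension n R (MvPolynomial (Fin n) R) := by
  let v : PEmpty.{1} → MvPolynomial (Fin n) R := PEmpty.elim
  let P₀ := Algebra.PreSubmersivePresentation.naive (v := v) PEmpty.elim (fun x => x.elim)
  let P : Algebra.SubmersivePresentation R (MvPolynomial (Fin n) R ⧸ Ideal.span (Set.range v)) (Fin n) PEmpty.{1} :=
    ⟨P₀, by rw [Algebra.PreSubmersivePresentation.jacobian_eq_jacobiMatrix_det, Matrix.det_isEmpty, map_one]; exact isUnit_one⟩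
  haveI : Algebra.IsStandardSmoothOfRelativeDimension n R (MvPolynomial (Fin n) R ⧸ Ideal.span (Set.range v)) :=
    P.isStandardSmoothOfRelativeDimension (by simp [Algebra.Presentation.dimension])
  have h : Ideal.span (Set.range v) = ⊥ := by rw [Set.range_eq_empty, Ideal.span_empty]
  exact Algebra.IsStandardSmoothOfRelativeDimension.of_algEquiv _
    ((Ideal.quotientEquivAlgOfEq R h).trans (AlgEquiv.quotientBot R (MvPolynomial (Fin n) R)))

variable {N n d : ℕ} (ι : Fin (d + 1) ≃ {s : Finset (Fin N) // s.card = n})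
  {k : Type u} [CommRing k]

theorem cols_injective (t : Fin (d + 1)) : Function.Injective (cols ι t) :=
  ((ι t).1.orderEmbOfFin (ι t).2).injective

/-- The ring of a chart is a polynomial ring. -/
theorem exists_chartEquiv (I : Fin n → Fin N) (hI : Function.Injective I) :
    Nonempty (Ch (k := k) I ≃ₐ[k] MvPolynomial (ULift.{u} (Fin (n * (N - n)))) k) := by
  classical
  have hcard : Fintype.card (Fin n × {l : Fin N // l ∉ Set.range I}) = n * (N - n) := by
    rw [Fintype.card_prod, Fintype.card_fin, Fintype.card_subtype_compl]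
    congr 1
    rw [Fintype.card_fin]
    congr 1
    show Fintype.card {l : Fin N // l ∈ Set.range I} = n
    exact ((Set.card_range_of_injective hI).trans (Fintype.card_fin n))
  let ε : Fin n × {l : Fin N // l ∉ Set.range I} ≃ ULift.{u} (Fin (n * (N - n))) :=
    (Fintype.equivFinOfCardEq hcard).trans Equiv.ulift.symm
  let P : Matrix (Fin n) (Fin N) (MvPolynomial (ULift.{u} (Fin (n * (N - n)))) k) := fun r l =>
    if h : l ∈ Set.range I then (1 : Matrix (Fin n) (Fin n) _) r h.choose else MvPolynomial.X (ε (r, ⟨l, h⟩))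
  have hP : Normed I P := by
    refine Matrix.ext fun r c => ?_
    show P r (I c) = _
    have h : I c ∈ Set.range I := ⟨c, rfl⟩
    rw [show P r (I c) = (1 : Matrix (Fin n) (Fin n) _) r h.choose from dif_pos h]
    rw [show h.choose = c from hI h.choose_spec]
  obtain ⟨f, hf⟩ := exists_hom (k := k) I P hP
  let g : MvPolynomial (ULift.{u} (Fin (n * (N - n)))) k →ₐ[k] Ch (k := k) I :=
    MvPolynomial.aeval fun x => univ (k := k) I (ε.symm x).1 (ε.symm x).2.1
  refine ⟨AlgEquiv.ofAlgHom f g ?_ (hom_unique I _ _ (Matrix.ext fun r l => ?_))⟩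
  · refine MvPolynomial.algHom_ext fun x => ?_
    rw [AlgHom.comp_apply, MvPolynomial.aeval_X, AlgHom.id_apply]
    have := congrFun (congrFun hf (ε.symm x).1) (ε.symm x).2.1
    rw [Matrix.map_apply] at this
    rw [this, show P (ε.symm x).1 (ε.symm x).2.1 = MvPolynomial.X (ε ((ε.symm x).1, ⟨_, (ε.symm x).2.2⟩)) from
      dif_neg (ε.symm x).2.2]
    exact congrArg _ (ε.apply_symm_apply x)
  · rw [Matrix.map_apply, Matrix.map_apply, AlgHom.comp_apply, AlgHom.id_apply]
    have := congrFun (congrFun hf r) l
    rw [Matrix.map_apply] at this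
    rw [this]
    by_cases h : l ∈ Set.range I
    · rw [show P r l = (1 : Matrix (Fin n) (Fin n) _) r h.choose from dif_pos h]
      conv_rhs => rw [← h.choose_spec, show univ (k := k) I r (I h.choose) =
        ((univ (k := k) I).submatrix id I) r h.choose from rfl, normed_univ]
      rw [Matrix.one_apply, Matrix.one_apply]
      split_ifs <;> simp
    · rw [show P r l = MvPolynomial.X (ε (r, ⟨l, h⟩)) from dif_neg h]
      simp [g]

variable {M : Type u} [AddCommGroup M] [Module k M] (b : Module.Basis (Fin N) k M) (D : Rep k M n)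

include ι b in
theorem exists_affine_cover :
    ∃ (U : Fin (d + 1) → D.X.left.Opens), ⨆ t, U t = ⊤ ∧
      ∀ t, Nonempty (Over.mk ((U t).ι ≫ D.X.hom) ≅
        Over.mk (𝔸(ULift.{u} (Fin (n * (N - n))); Spec (CommRingCat.of k)) ↘ Spec (CommRingCat.of k))) := by
  haveI : ∀ t, IsOpenImmersion (σ D (cols ι t) b) := fun t => isOpenImmersion_σ D _ b
  refine ⟨fun t => (σ D (cols ι t) b).opensRange, top_le_iff.1 fun x _ => ?_, fun t => ?_⟩
  · obtain ⟨t, w, hw⟩ := exists_chart_mem ι b D x
    exact Opens.mem_iSup.2 ⟨t, w, hw⟩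
  · obtain ⟨e⟩ := exists_chartEquiv (k := k) (cols ι t) (cols_injective ι t)
    let e₁ : Spec (CommRingCat.of (Ch (k := k) (cols ι t))) ≅
        Spec (CommRingCat.of (MvPolynomial (ULift.{u} (Fin (n * (N - n)))) k)) :=
      Scheme.Spec.mapIso e.symm.toRingEquiv.toCommRingCatIso.op
    refine ⟨(Over.isoMk (e₁.symm ≪≫ (σ D (cols ι t) b).isoOpensRange) ?_).symm ≪≫
      Over.isoMk (f := Over.mk (Spec.map (CommRingCat.ofHom (MvPolynomial.C (R := k) (σ := ULift.{u} (Fin (n * (N - n))))))))
        (g := Over.mk (𝔸(ULift.{u} (Fin (n * (N - n))); Spec (CommRingCat.of k)) ↘ Spec (CommRingCat.of k)))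
        (AffineSpace.SpecIso (ULift.{u} (Fin (n * (N - n)))) (CommRingCat.of k)).symm ?_⟩
    · show (e₁.inv ≫ (σ D (cols ι t) b).isoOpensRange.hom) ≫ _ ≫ D.X.hom = _
      rw [Category.assoc, Scheme.Hom.isoOpensRange_hom_ι_assoc, σ_hom]
      show Spec.map _ ≫ Spec.map _ = Spec.map _
      rw [← Spec.map_comp]
      congr 1
      exact CommRingCat.hom_ext (RingHom.ext fun c => e.commutes c)
    · exact AffineSpace.SpecIso_inv_over _

include b in
theorem smoothOfRelativeDimension_hom (hn : n ≤ N) : SmoothOfRelativeDimension (n * (N - n)) D.X.hom := by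
  have hcard : Fintype.card {s : Finset (Fin N) // s.card = n} = N.choose n - 1 + 1 := by
    rw [Fintype.card_finset_len, Fintype.card_fin]
    have := Nat.choose_pos hn
    omega
  let ι : Fin (N.choose n - 1 + 1) ≃ {s : Finset (Fin N) // s.card = n} :=
    (Fintype.equivFinOfCardEq hcard).symm
  refine IsZariskiLocalAtSource.of_openCover (cov ι b D) fun t => ?_
  show SmoothOfRelativeDimension _ (σ D (cols ι t.down) b ≫ D.X.hom)
  rw [σ_hom]
  obtain ⟨e⟩ := exists_chartEquiv (k := k) (cols ι t.down) (cols_injective ι t.down)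
  haveI := isStdSmooth_mvPolynomial k (n * (N - n))
  haveI : Algebra.IsStandardSmoothOfRelativeDimension (n * (N - n)) k (Ch (k := k) (cols ι t.down)) :=
    Algebra.IsStandardSmoothOfRelativeDimension.of_algEquiv _
      ((MvPolynomial.renameEquiv k Equiv.ulift.symm).trans e.symm)
  rw [HasRingHomProperty.Spec_iff (P := @SmoothOfRelativeDimension (n * (N - n)))]
  exact RingHom.locally_of RingHom.isStandardSmoothOfRelativeDimension_respectsIso _
    ((RingHom.isStandardSmoothOfRelativeDimension_algebraMap _).2 inferInstance)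

end Groth.Agent.GrPlucker
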